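import Mathlib
import Groth.Agent.UnivHomeo.Basic

set_option autoImplicit false

universe u

open CategoryTheory AlgebraicGeometry Groth.Agent.UnivHomeo.Basic

namespace Groth.Agent.HTopAWN

variable (A : Type u) [CommRing A]

/-- product of algebraic closures of all residue fields -/
abbrev Pt : Type u := (q : PrimeSpectrum A) → AlgebraicClosure q.asIdeal.ResidueField

theorem ker_to_closure (q : PrimeSpectrum A) :
    RingHom.ker (algebraMap A (AlgebraicClosure q.asIdeal.ResidueField)) = q.asIdeal := by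
  rw [IsScalarTower.algebraMap_eq A q.asIdeal.ResidueField (AlgebraicClosure q.asIdeal.ResidueField),
    RingHom.ker_comp_of_injective _ (RingHom.injective _)]
  exact Ideal.ker_algebraMap_residueField _

/-- subalgebras of `Pt A` which are integral and injective on points -/
def good : Set (Subalgebra A (Pt A)) :=
  {S | Algebra.IsIntegral A S ∧ InjPoints (algebraMap A S)}

/-- the normalization ring -/
noncomputable def W : Subalgebra A (Pt A) := sSup (good A)

theorem injPoints_W : InjPoints (algebraMap A (W A)) := by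
  intro K _ g₁ g₂ h
  letI := (g₁.comp (algebraMap A (W A))).toAlgebra
  let f₁ : W A →ₐ[A] K := ⟨g₁, fun a => rfl⟩
  let f₂ : W A →ₐ[A] K := ⟨g₂, fun a => (RingHom.congr_fun h a).symm⟩
  have hle : W A ≤ (AlgHom.equalizer f₁ f₂).map (W A).val := by
    refine sSup_le fun S hS x hx => ?_
    have hSW : S ≤ W A := le_sSup hS
    refine ⟨⟨x, hSW hx⟩, ?_, rfl⟩
    exact RingHom.congr_fun (hS.2 K (g₁.comp (Subalgebra.inclusion hSW).toRingHom)
      (g₂.comp (Subalgebra.inclusion hSW).toRingHom) (RingHom.ext fun a => RingHom.congr_fun h a)) ⟨x, hx⟩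
  refine RingHom.ext fun x => ?_
  obtain ⟨y, hy, hyx⟩ := hle x.2
  obtain rfl : y = x := Subtype.ext hyx
  exact hy

theorem isIntegral_W : (algebraMap A (W A)).IsIntegral := by
  have h : W A ≤ integralClosure A (Pt A) := sSup_le fun S hS x hx =>
    (IsIntegral.map S.val (hS.1.isIntegral ⟨x, hx⟩))
  intro x
  exact (isIntegral_algHom_iff (W A).val Subtype.val_injective).1 (h x.2)

theorem surjective_comap_W : Function.Surjective (PrimeSpectrum.comap (algebraMap A (W A))) := by
  intro q
  refine ⟨⟨RingHom.ker ((Pi.evalRingHom (fun q : PrimeSpectrum A => AlgebraicClosure q.asIdeal.ResidueField) q).comp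
    (W A).val.toRingHom), RingHom.ker_isPrime _⟩, PrimeSpectrum.ext ?_⟩
  rw [PrimeSpectrum.comap_asIdeal, RingHom.comap_ker]
  exact ker_to_closure A q

theorem W_isRingAWN : HTop.IsRingAWN (algebraMap A (W A)) := by
  refine ⟨(isUnivHomeo_spec_iff _).2 ⟨isIntegral_W A, surjective_comap_W A, injPoints_W A⟩, ?_⟩
  intro C _ ψ hψ
  obtain ⟨hint, hsurj, hinj⟩ := (isUnivHomeo_spec_iff ψ).1 hψ
  letI := ψ.toAlgebra
  have hex : ∀ q : PrimeSpectrum A, ∃ g : C →+* AlgebraicClosure q.asIdeal.ResidueField,
      g.comp ψ = algebraMap A _ := fun q => by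
    obtain ⟨Q, hQ⟩ := hsurj q
    obtain ⟨g, hg, -⟩ := exists_extend_of_isIntegral hint
      (algebraMap A (AlgebraicClosure q.asIdeal.ResidueField)) Q.asIdeal
      ((ker_to_closure A q).trans (congrArg PrimeSpectrum.asIdeal hQ).symm)
    exact ⟨g, hg⟩
  choose g hg using hex
  let ι : C →ₐ[A] Pt A :=
    ⟨Pi.ringHom g, fun a => funext fun q => RingHom.congr_fun (hg q) a⟩
  have hι : ι.range ∈ good A := by
    refine ⟨⟨fun x => ?_⟩, fun K _ g₁ g₂ h => ?_⟩
    · obtain ⟨c, hc⟩ := ι.rangeRestrict_surjective x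
      rw [← hc]
      exact IsIntegral.map ι.rangeRestrict (hint c)
    · have := hinj K (g₁.comp ι.rangeRestrict.toRingHom) (g₂.comp ι.rangeRestrict.toRingHom)
        (RingHom.ext fun a => by
          show g₁ (ι.rangeRestrict (algebraMap A C a)) = g₂ (ι.rangeRestrict (algebraMap A C a))
          rw [AlgHom.commutes]
          exact RingHom.congr_fun h a)
      exact (RingHom.cancel_right ι.rangeRestrict_surjective).1 this
  refine ⟨((Subalgebra.inclusion (le_sSup hι)).comp ι.rangeRestrict).toRingHom,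
    RingHom.ext fun a => Subtype.ext (funext fun q => RingHom.congr_fun (hg q) a), fun χ hχ => ?_⟩
  refine RingHom.ext fun c => Subtype.ext (funext fun q => ?_)
  have h := hinj _ ((Pi.evalRingHom (fun q : PrimeSpectrum A => AlgebraicClosure q.asIdeal.ResidueField) q).comp
    ((W A).val.toRingHom.comp χ)) (g q) ?_
  · exact RingHom.congr_fun h c
  · rw [hg q, RingHom.comp_assoc, RingHom.comp_assoc, hχ]
    rfl

theorem exists_isRingAWN : ∃ (B : Type u) (_ : CommRing B) (φ : A →+* B), HTop.IsRingAWN φ :=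
  ⟨W A, inferInstance, algebraMap A (W A), W_isRingAWN A⟩

end Groth.Agent.HTopAWN
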