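import Mathlib
import Groth.Agent.HTopAWN.Exists

set_option autoImplicit false

universe u

open Groth.Agent.UnivHomeo.Basic

namespace Groth.Agent.HTopAWN

variable {A : Type u} [CommRing A]

/-- two maps into a reduced ring agreeing on `A` agree -/
theorem eq_of_injPoints {B C : Type u} [CommRing B] [CommRing C] [IsReduced C] {φ : A →+* B}
    (hφ : InjPoints φ) (g₁ g₂ : B →+* C) (h : g₁.comp φ = g₂.comp φ) : g₁ = g₂ := by
  refine RingHom.ext fun b => sub_eq_zero.1 ?_
  have hn : g₁ b - g₂ b ∈ nilradical C := by
    rw [nilradical_eq_sInf, Submodule.mem_sInf]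
    intro (P : Ideal C) (hP : P.IsPrime)
    have := RingHom.congr_fun (hφ P.ResidueField ((algebraMap C P.ResidueField).comp g₁)
      ((algebraMap C P.ResidueField).comp g₂) (by rw [RingHom.comp_assoc, h, ← RingHom.comp_assoc])) b
    rw [RingHom.comp_apply, RingHom.comp_apply, ← sub_eq_zero, ← map_sub] at this
    exact Ideal.algebraMap_residueField_eq_zero.1 this
  exact IsNilpotent.eq_zero (mem_nilradical.1 hn)

instance isReduced_W (A : Type u) [CommRing A] : IsReduced (W A) :=
  isReduced_of_injective (W A).val.toRingHom Subtype.val_injective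

/-- component -/
noncomputable def ev (q : PrimeSpectrum A) : W A →+* AlgebraicClosure q.asIdeal.ResidueField :=
  (Pi.evalRingHom (fun q : PrimeSpectrum A => AlgebraicClosure q.asIdeal.ResidueField) q).comp
    (W A).val.toRingHom

theorem W_ext {x y : W A} (h : ∀ q, ev q x = ev q y) : x = y := Subtype.ext (funext h)

/-- extend a map to an algebraically closed field -/
theorem exists_extend_W {Ω : Type u} [Field Ω] [IsAlgClosed Ω] (g : A →+* Ω) :
    ∃ G : W A →+* Ω, G.comp (algebraMap A (W A)) = g := by
  obtain ⟨Q, hQ⟩ := surjective_comap_W A ⟨RingHom.ker g, RingHom.ker_isPrime g⟩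
  obtain ⟨G, hG, -⟩ := exists_extend_of_isIntegral (isIntegral_W A) g Q.asIdeal
    (congrArg PrimeSpectrum.asIdeal hQ).symm
  exact ⟨G, hG⟩

theorem exists_hom {S : Type u} [CommRing S] (h : A →+* S) :
    ∃ H : W A →+* W S, H.comp (algebraMap A (W A)) = (algebraMap S (W S)).comp h := by
  choose g hg using fun q : PrimeSpectrum S =>
    exists_extend_W ((algebraMap S (AlgebraicClosure q.asIdeal.ResidueField)).comp h)
  set ψ : W A →+* Pt S := Pi.ringHom g
  have hψ : ψ.comp (algebraMap A (W A)) = (algebraMap S (Pt S)).comp h :=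
    RingHom.ext fun a => funext fun q => RingHom.congr_fun (hg q) a
  set T := Algebra.adjoin S (Set.range ψ)
  have hT : T ∈ good S := by
    refine ⟨⟨fun x => ?_⟩, fun K _ g₁ g₂ hK => ?_⟩
    · have hle : T ≤ integralClosure S (Pt S) := by
        refine Algebra.adjoin_le ?_
        rintro _ ⟨w, rfl⟩
        obtain ⟨p, hp, hpw⟩ := isIntegral_W A w
        refine ⟨p.map h, hp.map _, ?_⟩
        rw [Polynomial.eval₂_map, ← hψ, ← Polynomial.hom_eval₂, hpw, map_zero]
      exact (isIntegral_algHom_iff T.val Subtype.val_injective).1 (hle x.2)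
    · let ψ' : W A →+* T := ψ.codRestrict T fun w => Algebra.subset_adjoin ⟨w, rfl⟩
      have hw : g₁.comp ψ' = g₂.comp ψ' := injPoints_W A K _ _ (RingHom.ext fun a => by
        have e : ψ' (algebraMap A (W A) a) = algebraMap S T (h a) := Subtype.ext (RingHom.congr_fun hψ a)
        simp only [RingHom.comp_apply, e]
        exact RingHom.congr_fun hK (h a))
      refine RingHom.ext fun x => ?_
      obtain ⟨x, hx⟩ := x
      induction hx using Algebra.adjoin_induction with
      | mem y hy =>
        obtain ⟨w, rfl⟩ := hy
        exact RingHom.congr_fun hw w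
      | algebraMap s => exact RingHom.congr_fun hK s
      | add y z hy hz ey ez =>
        exact (map_add g₁ ⟨y, hy⟩ ⟨z, hz⟩).trans ((congrArg₂ (· + ·) ey ez).trans (map_add g₂ ⟨y, hy⟩ ⟨z, hz⟩).symm)
      | mul y z hy hz ey ez =>
        exact (map_mul g₁ ⟨y, hy⟩ ⟨z, hz⟩).trans ((congrArg₂ (· * ·) ey ez).trans (map_mul g₂ ⟨y, hy⟩ ⟨z, hz⟩).symm)
  refine ⟨ψ.codRestrict (W S) fun w => (le_sSup hT : T ≤ W S) (Algebra.subset_adjoin ⟨w, rfl⟩), ?_⟩
  exact RingHom.ext fun a => Subtype.ext (RingHom.congr_fun hψ a)

/-- functoriality -/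
noncomputable def hom {S : Type u} [CommRing S] (h : A →+* S) : W A →+* W S := (exists_hom h).choose

theorem hom_comp_algebraMap {S : Type u} [CommRing S] (h : A →+* S) :
    (hom h).comp (algebraMap A (W A)) = (algebraMap S (W S)).comp h := (exists_hom h).choose_spec

theorem hom_algebraMap {S : Type u} [CommRing S] (h : A →+* S) (a : A) :
    hom h (algebraMap A (W A) a) = algebraMap S (W S) (h a) := RingHom.congr_fun (hom_comp_algebraMap h) a

theorem hom_id : hom (RingHom.id A) = RingHom.id (W A) :=
  eq_of_injPoints (injPoints_W A) _ _ (by rw [hom_comp_algebraMap]; rfl)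

theorem hom_comp {S T : Type u} [CommRing S] [CommRing T] (h : A →+* S) (k : S →+* T) :
    hom (k.comp h) = (hom k).comp (hom h) :=
  eq_of_injPoints (injPoints_W A) _ _ (by
    rw [hom_comp_algebraMap, RingHom.comp_assoc, hom_comp_algebraMap, ← RingHom.comp_assoc,
      ← RingHom.comp_assoc, hom_comp_algebraMap])

/-- rings inside `W A` are injective on points -/
theorem injPoints_of_injective {B : Type u} [CommRing B] (φ : A →+* B) (ι : B →+* W A)
    (hι : Function.Injective ι) (hφ : ι.comp φ = algebraMap A (W A)) : InjPoints φ := by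
  intro L _ l₁ l₂ hL
  have hint : ι.IsIntegral := fun t => by
    obtain ⟨p, hp, hpt⟩ := isIntegral_W A t
    refine ⟨p.map φ, hp.map _, ?_⟩
    rw [Polynomial.eval₂_map, hφ]
    exact hpt
  have ext' : ∀ l : B →+* L, ∃ l' : W A →+* AlgebraicClosure L,
      ∀ t : B, l' (ι t) = algebraMap L (AlgebraicClosure L) (l t) := by
    intro l
    letI : Algebra B (W A) := ι.toAlgebra
    haveI : Algebra.IsIntegral B (W A) := ⟨hint⟩
    set g : B →+* AlgebraicClosure L := (algebraMap L (AlgebraicClosure L)).comp l
    have hP : (RingHom.ker g).IsPrime := RingHom.ker_isPrime g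
    obtain ⟨Q, -, hQp, hQ⟩ := Ideal.exists_ideal_over_prime_of_isIntegral (R := B) (S := W A)
      (RingHom.ker g) ⊥ (by
        rw [← RingHom.ker_eq_comap_bot, (RingHom.injective_iff_ker_eq_bot _).1
          (show Function.Injective (algebraMap B (W A)) from hι)]
        exact bot_le)
    obtain ⟨l', hl', -⟩ := exists_extend_of_isIntegral (φ := ι) hint g Q hQ.symm
    exact ⟨l', fun t => RingHom.congr_fun hl' t⟩
  obtain ⟨m₁, h₁⟩ := ext' l₁
  obtain ⟨m₂, h₂⟩ := ext' l₂
  have e : m₁ = m₂ := injPoints_W A _ _ _ (RingHom.ext fun b => by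
    have hb := RingHom.congr_fun hφ b
    rw [RingHom.comp_apply, RingHom.comp_apply, ← hb, RingHom.comp_apply, h₁, h₂]
    exact congrArg _ (RingHom.congr_fun hL b))
  subst e
  exact RingHom.ext fun t => (algebraMap L (AlgebraicClosure L)).injective ((h₁ t).symm.trans (h₂ t))

theorem exists_lift_adjoin {B K : Type u} [CommRing B] [Algebra A B] [Field K] (w : B) (g : A →+* K) (c : K)
    (h : ∀ p : Polynomial A, Polynomial.aeval w p = 0 → Polynomial.eval₂ g c p = 0) :
    ∃ l : Algebra.adjoin A ({w} : Set B) →+* K, l.comp (algebraMap A _) = g ∧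
      l ⟨w, Algebra.subset_adjoin rfl⟩ = c := by
  let π : Polynomial A →ₐ[A] Algebra.adjoin A ({w} : Set B) :=
    Polynomial.aeval (⟨w, Algebra.subset_adjoin rfl⟩ : Algebra.adjoin A ({w} : Set B))
  have hcoe : ∀ p, ((π p : Algebra.adjoin A ({w} : Set B)) : B) = Polynomial.aeval w p := fun p =>
    (Polynomial.aeval_algHom_apply (Algebra.adjoin A ({w} : Set B)).val _ p).symm
  have hπ : Function.Surjective π := by
    intro t
    have ht : (t : B) ∈ (Polynomial.aeval (R := A) w).range := by
      rw [← Algebra.adjoin_singleton_eq_range_aeval]; exact t.2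
    obtain ⟨p, hp⟩ := ht
    exact ⟨p, Subtype.ext ((hcoe p).trans hp)⟩
  have hk : RingHom.ker π.toRingHom ≤ RingHom.ker (Polynomial.eval₂RingHom g c) := fun p hp =>
    h p (by rw [← hcoe p]; exact congrArg Subtype.val (RingHom.mem_ker.1 hp))
  have key : ∀ p, RingHom.liftOfSurjective π.toRingHom hπ ⟨_, hk⟩ (π p) = Polynomial.eval₂ g c p :=
    fun p => RingHom.liftOfRightInverse_comp_apply π.toRingHom (Function.surjInv hπ)
      (Function.rightInverse_surjInv hπ) ⟨_, hk⟩ p
  refine ⟨RingHom.liftOfSurjective π.toRingHom hπ ⟨_, hk⟩, RingHom.ext fun b => ?_, ?_⟩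
  · rw [RingHom.comp_apply, show algebraMap A (Algebra.adjoin A ({w} : Set B)) b = π (Polynomial.C b) by
      simp [π], key, Polynomial.eval₂_C]
  · rw [show (⟨w, Algebra.subset_adjoin rfl⟩ : Algebra.adjoin A ({w} : Set B)) = π Polynomial.X by simp [π],
      key, Polynomial.eval₂_X]

set_option maxHeartbeats 1000000 in
theorem isLocalization_hom {A' : Type u} [CommRing A'] [Algebra A A'] (f : A) [IsLocalization.Away f A'] :
    letI := (hom (algebraMap A A')).toAlgebra
    IsLocalization.Away (algebraMap A (W A) f) (W A') := by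
  classical
  letI := (hom (algebraMap A A')).toAlgebra
  -- points outside `V(f)`
  have hG : ∀ q : PrimeSpectrum A, f ∉ q.asIdeal → ∃ G : W A' →+* AlgebraicClosure q.asIdeal.ResidueField,
      (G.comp (algebraMap A' (W A'))).comp (algebraMap A A') = algebraMap A _ := fun q hq => by
    have hu : IsUnit (algebraMap A (AlgebraicClosure q.asIdeal.ResidueField) f) :=
      IsUnit.mk0 _ fun h0 => hq (by rw [← ker_to_closure A q]; exact h0)
    obtain ⟨G, hG⟩ := exists_extend_W (IsLocalization.Away.lift (S := A') f hu)
    exact ⟨G, by rw [hG]; exact IsLocalization.Away.lift_comp f hu⟩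
  choose G hG using hG
  have hev : ∀ q hq (x : W A), G q hq (hom (algebraMap A A') x) = ev q x := fun q hq x =>
    RingHom.congr_fun (eq_of_injPoints (injPoints_W A) ((G q hq).comp (hom (algebraMap A A'))) (ev q)
      (by rw [RingHom.comp_assoc, hom_comp_algebraMap, ← RingHom.comp_assoc, hG]; rfl)) x
  -- detect zero
  have hzero : ∀ w : W A', (∀ q hq, G q hq w = 0) → w = 0 := fun w hw => by
    refine W_ext fun q' => ?_
    rw [map_zero]
    set q := PrimeSpectrum.comap (algebraMap A A') q'
    have hq : f ∉ q.asIdeal := fun hf => q'.2.ne_top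
      (Ideal.eq_top_of_isUnit_mem _ hf (IsLocalization.Away.algebraMap_isUnit f))
    have e : RingHom.ker (G q hq) = RingHom.ker (ev q') := by
      have hinj := comap_injective_of_injPoints (injPoints_W A')
      have := @hinj ⟨_, RingHom.ker_isPrime (G q hq)⟩ ⟨_, RingHom.ker_isPrime (ev q')⟩ ?_
      · exact congrArg PrimeSpectrum.asIdeal this
      · refine PrimeSpectrum.localization_comap_injective A' (Submonoid.powers f) (PrimeSpectrum.ext ?_)
        have e1 : (RingHom.ker ((G q hq).comp (algebraMap A' (W A')))).comap (algebraMap A A') = q.asIdeal := by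
          rw [RingHom.comap_ker, hG, ker_to_closure]
        have e2 : (RingHom.ker ((ev q').comp (algebraMap A' (W A')))).comap (algebraMap A A') = q.asIdeal := by
          rw [show (ev q').comp (algebraMap A' (W A')) = algebraMap A' _ from rfl, ker_to_closure]
          rfl
        simp only [PrimeSpectrum.comap_asIdeal, RingHom.comap_ker] at e1 e2 ⊢
        exact e1.trans e2.symm
    rw [← RingHom.mem_ker, ← e]
    exact hw q hq
  refine IsLocalization.Away.mk _ ?_ ?_ ?_
  · show IsUnit (hom (algebraMap A A') _)
    rw [hom_algebraMap]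
    exact (IsLocalization.Away.algebraMap_isUnit f).map _
  · -- surjectivity
    intro y
    letI : Algebra A (W A') := ((algebraMap A' (W A')).comp (algebraMap A A')).toAlgebra
    haveI : IsScalarTower A A' (W A') := IsScalarTower.of_algebraMap_eq fun _ => rfl
    obtain ⟨⟨_, m, rfl⟩, hm⟩ := IsIntegral.exists_multiple_integral_of_isLocalization
      (Submonoid.powers f) (Rₘ := A') y (isIntegral_W A' y)
    set u : W A' := algebraMap A (W A') (f ^ m) * y
    have hu : IsIntegral A u := by
      have : ((⟨f ^ m, m, rfl⟩ : Submonoid.powers f) • y : W A') = u := by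
        rw [Submonoid.smul_def, Algebra.smul_def]
      exact this ▸ hm
    let z : Pt A := fun q => if hq : f ∈ q.asIdeal then 0 else G q hq u
    obtain ⟨P, hP, hPu⟩ := hu
    let Q := P * Polynomial.X
    have hQz : Polynomial.aeval z Q = 0 := funext fun q => by
      show Pi.evalAlgHom A (fun q : PrimeSpectrum A => AlgebraicClosure q.asIdeal.ResidueField) q
        (Polynomial.aeval z Q) = 0
      rw [← Polynomial.aeval_algHom_apply]
      show Polynomial.aeval (z q) Q = 0
      by_cases hq : f ∈ q.asIdeal
      · simp [z, hq, Q]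
      · simp only [z, hq, dif_neg, not_false_eq_true, Q, map_mul]
        rw [Polynomial.aeval_def, ← hG q hq, RingHom.comp_assoc, ← Polynomial.hom_eval₂]
        rw [show Polynomial.eval₂ ((algebraMap A' (W A')).comp (algebraMap A A')) u P = 0 from hPu,
          map_zero, zero_mul]
    have hQm : Q.Monic := hP.mul Polynomial.monic_X
    let x : Pt A := algebraMap A (Pt A) f * z
    set T := Algebra.adjoin A ({x} : Set (Pt A))
    have hxT : x ∈ T := Algebra.subset_adjoin rfl
    have hxq : ∀ q (hq : f ∉ q.asIdeal), x q = G q hq (algebraMap A (W A') (f ^ (m + 1)) * y) := fun q hq => by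
      show algebraMap A _ f * z q = _
      rw [pow_succ', map_mul (algebraMap A (W A')), mul_assoc, map_mul (G q hq)]
      exact congrArg₂ (· * ·) (RingHom.congr_fun (hG q hq) f).symm (by simp [z, hq, u])
    have hT : T ∈ good A := by
      refine ⟨⟨fun t => ?_⟩, fun K _ g₁ g₂ hK => ?_⟩
      · have hle : T ≤ integralClosure A (Pt A) := Algebra.adjoin_le (by
          rintro _ rfl
          exact (isIntegral_algebraMap).mul ⟨Q, hQm, hQz⟩)
        exact (isIntegral_algHom_iff T.val Subtype.val_injective).1 (hle t.2)
      · letI : Algebra A K := (g₁.comp (algebraMap A T)).toAlgebra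
        let a₁ : T →ₐ[A] K := ⟨g₁, fun _ => rfl⟩
        let a₂ : T →ₐ[A] K := ⟨g₂, fun a => (RingHom.congr_fun hK a).symm⟩
        let xT : T := ⟨x, hxT⟩
        suffices a₁ xT = a₂ xT by
          refine congrArg AlgHom.toRingHom (?_ : a₁ = a₂)
          refine AlgHom.ext fun t => ?_
          obtain ⟨t, ht⟩ := t
          induction ht using Algebra.adjoin_induction with
          | mem y hy => obtain rfl : y = x := hy; exact this
          | algebraMap a => exact (a₁.commutes a).trans (a₂.commutes a).symm
          | add y z hy hz ey ez =>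
            exact (map_add a₁ ⟨y, hy⟩ ⟨z, hz⟩).trans ((congrArg₂ (· + ·) ey ez).trans (map_add a₂ ⟨y, hy⟩ ⟨z, hz⟩).symm)
          | mul y z hy hz ey ez =>
            exact (map_mul a₁ ⟨y, hy⟩ ⟨z, hz⟩).trans ((congrArg₂ (· * ·) ey ez).trans (map_mul a₂ ⟨y, hy⟩ ⟨z, hz⟩).symm)
        -- homogenised equation
        by_cases hf : algebraMap A K f = 0
        · have key : Polynomial.aeval xT (Q.scaleRoots f) = 0 := Subtype.ext (by
            have : T.val (Polynomial.aeval xT (Q.scaleRoots f)) = 0 := by
              rw [← Polynomial.aeval_algHom_apply]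
              exact Polynomial.scaleRoots_aeval_eq_zero hQz
            exact this)
          have hz : ∀ a : T →ₐ[A] K, a xT = 0 := fun a => by
            have h := congrArg a key
            rw [map_zero, ← Polynomial.aeval_algHom_apply, Polynomial.aeval_eq_sum_range,
              Polynomial.natDegree_scaleRoots, Finset.sum_range_succ, Finset.sum_eq_zero fun i hi => ?_,
              zero_add] at h
            · rw [Polynomial.coeff_scaleRoots_natDegree, hQm.leadingCoeff, one_smul] at h
              exact eq_zero_of_pow_eq_zero h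
            · rw [Polynomial.coeff_scaleRoots, Algebra.smul_def, map_mul, map_pow, hf,
                zero_pow (by have := Finset.mem_range.1 hi; omega), mul_zero, zero_mul]
          rw [hz a₁, hz a₂]
        · let w : W A' := algebraMap A (W A') (f ^ (m + 1)) * y
          set U := Algebra.adjoin A' ({w} : Set (W A'))
          -- a polynomial killing `w` kills the images of `x`
          let gA : A' →+* K := IsLocalization.Away.lift (S := A') f (IsUnit.mk0 _ hf)
          have hgA : ∀ a, gA (algebraMap A A' a) = algebraMap A K a := fun a => IsLocalization.Away.lift_eq _ _ a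
          have kill : ∀ (a : T →ₐ[A] K) (p : Polynomial A'), Polynomial.aeval w p = 0 →
              Polynomial.eval₂ gA (a xT) p = 0 := by
            intro a p hp
            obtain ⟨_, ⟨n, rfl⟩, hn⟩ := IsLocalization.integerNormalization_spec (Submonoid.powers f) p
            rw [← algebraMap_smul A', Polynomial.smul_eq_C_mul] at hn
            set p₀ := IsLocalization.integerNormalization (Submonoid.powers f) p
            have h0 : Polynomial.eval₂ (algebraMap A (W A')) w p₀ = 0 := by
              have : Polynomial.eval₂ (algebraMap A' (W A')) w (p₀.map (algebraMap A A')) = 0 := by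
                rw [hn, ← Polynomial.aeval_def, map_mul, hp, mul_zero]
              rwa [Polynomial.eval₂_map] at this
            have hfz : algebraMap A T f * Polynomial.aeval xT p₀ = 0 := Subtype.ext (funext fun q => by
              show algebraMap A _ f * (Pi.evalAlgHom A (fun q : PrimeSpectrum A => AlgebraicClosure q.asIdeal.ResidueField) q)
                (T.val (Polynomial.aeval xT p₀)) = 0
              by_cases hq : f ∈ q.asIdeal
              · rw [← ker_to_closure A q] at hq
                rw [RingHom.mem_ker.1 hq, zero_mul]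
              · rw [← Polynomial.aeval_algHom_apply, ← Polynomial.aeval_algHom_apply]
                show _ * Polynomial.aeval (x q) p₀ = 0
                rw [hxq q hq, Polynomial.aeval_def, ← hG q hq, RingHom.comp_assoc,
                  ← Polynomial.hom_eval₂]
                rw [show Polynomial.eval₂ ((algebraMap A' (W A')).comp (algebraMap A A')) w p₀ = 0 from h0,
                  map_zero, mul_zero])
            have h := congrArg a hfz
            rw [map_mul, map_zero, AlgHom.commutes, mul_eq_zero] at h
            have h' := h.resolve_left hf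
            rw [← Polynomial.aeval_algHom_apply, Polynomial.aeval_def,
              show algebraMap A K = gA.comp (algebraMap A A') from RingHom.ext fun b => (hgA b).symm,
              ← Polynomial.eval₂_map, hn, Polynomial.eval₂_mul, Polynomial.eval₂_C, hgA, map_pow] at h'
            exact (mul_eq_zero.1 h').resolve_left (pow_ne_zero _ hf)
          have hU := injPoints_of_injective (A := A') (B := ↥U) (algebraMap A' ↥U) U.val.toRingHom Subtype.val_injective
            (RingHom.ext fun _ => rfl)
          have hext : ∀ a : T →ₐ[A] K, ∃ l : U →+* K, l.comp (algebraMap A' U) = gA ∧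
              l ⟨w, Algebra.subset_adjoin rfl⟩ = a xT :=
            fun a => exists_lift_adjoin w gA (a xT) (kill a)
          obtain ⟨l₁, hl₁, e₁⟩ := hext a₁
          obtain ⟨l₂, hl₂, e₂⟩ := hext a₂
          rw [← e₁, ← e₂, hU K l₁ l₂ (hl₁.trans hl₂.symm)]
    refine ⟨m + 1, ⟨x, (le_sSup hT : T ≤ W A) hxT⟩, ?_⟩
    show y * hom (algebraMap A A') (algebraMap A (W A) f) ^ (m + 1) = hom (algebraMap A A') _
    rw [hom_algebraMap, mul_comm, ← map_pow, ← map_pow]
    refine sub_eq_zero.1 (hzero _ fun q hq => ?_)
    rw [map_sub, hev q hq, sub_eq_zero]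
    exact (hxq q hq).symm
  · intro a b hab
    refine ⟨1, W_ext fun q => ?_⟩
    rw [pow_one, map_mul, map_mul]
    by_cases hq : f ∈ q.asIdeal
    · have : ev q (algebraMap A (W A) f) = 0 := by
        show algebraMap A (AlgebraicClosure q.asIdeal.ResidueField) f = 0
        rw [← RingHom.mem_ker, ker_to_closure]; exact hq
      rw [this, zero_mul, zero_mul]
    · rw [← hev q hq a, ← hev q hq b]
      exact congrArg (_ * ·) (congrArg (G q hq) hab)

end Groth.Agent.HTopAWN
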