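import Mathlib
import Groth.Agent.HTopAWN.Ring

set_option autoImplicit false
set_option backward.isDefEq.respectTransparency false
set_option backward.defeqAttrib.useBackward true

universe u

open CategoryTheory Limits AlgebraicGeometry AlgebraicGeometry.Scheme Groth.Agent.UnivHomeo.Basic

namespace Groth.Agent.HTopAWN

/-- morphisms from a reduced scheme into a separated radicial scheme agree -/
theorem ext_of_radicial {Z Y X : Scheme.{u}} [IsReduced Z] (π : Y ⟶ X) [IsSeparated π]
    [UniversallyInjective π] (g₁ g₂ : Z ⟶ Y) (h : g₁ ≫ π = g₂ ≫ π) : g₁ = g₂ := by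
  refine ext_of_fromSpecResidueField_eq g₁ g₂ π Set.univ dense_univ (fun z _ => ?_) h
  exact ((tfae_universallyInjective π).out 0 1 :
    UniversallyInjective π ↔ ∀ (K : Type u) [Field K],
      Function.Injective (fun g : Spec (.of K) ⟶ Y ↦ g ≫ π)).1 ‹_› (Z.residueField z)
    (by simp [h])

variable (X : Scheme.{u})

noncomputable def diagram : X.AffineZariskiSiteᵒᵖ ⥤ CommRingCat.{u} where
  obj U := .of (W Γ(X, U.unop.toOpens))
  map {U V} i := CommRingCat.ofHom
    (hom (((AffineZariskiSite.toOpensFunctor X).op ⋙ X.presheaf).map i).hom)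
  map_id U := by
    apply CommRingCat.hom_ext
    rw [CommRingCat.hom_ofHom, CategoryTheory.Functor.map_id]
    exact hom_id
  map_comp {U V T} i j := by
    apply CommRingCat.hom_ext
    rw [CommRingCat.hom_ofHom, CategoryTheory.Functor.map_comp]
    exact hom_comp _ _

noncomputable def diagramMap : (AffineZariskiSite.toOpensFunctor X).op ⋙ X.presheaf ⟶ diagram X where
  app U := CommRingCat.ofHom (algebraMap Γ(X, U.unop.toOpens) (W Γ(X, U.unop.toOpens)))
  naturality {U V} i := CommRingCat.hom_ext (hom_comp_algebraMap _).symm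

theorem coequifibered_diagramMap : (diagramMap X).Coequifibered := by
  refine AffineZariskiSite.coequifibered_iff_forall_isLocalizationAway.mpr fun U r => ?_
  letI : Algebra Γ(X, U.1) Γ(X, X.basicOpen r) :=
    (X.presheaf.map (homOfLE (X.basicOpen_le r)).op).hom.toAlgebra
  have : IsLocalization.Away r Γ(X, X.basicOpen r) := U.2.isLocalization_basicOpen _
  exact isLocalization_hom (A := Γ(X, U.1)) (A' := Γ(X, X.basicOpen r)) r

noncomputable abbrev glueData := AffineZariskiSite.relativeGluingData (coequifibered_diagramMap X)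

instance : ((glueData X).functor ⋙ Scheme.forget).IsLocallyDirected :=
  Cover.RelativeGluingData.instIsLocallyDirectedI₀CompFunctorForgetOfIsThin ..

noncomputable abbrev awn : Scheme.{u} := (glueData X).glued

noncomputable abbrev cover : (awn X).OpenCover := (glueData X).cover

noncomputable abbrev nu : awn X ⟶ X := (glueData X).toBase

theorem cover_nu (U : X.affineOpens) :
    (cover X).f U ≫ nu X =
      Spec.map (CommRingCat.ofHom (algebraMap Γ(X, U.1) (W Γ(X, U.1)))) ≫ U.2.fromSpec :=
  colimit.ι_desc _ _

theorem nu_preimage (U : X.affineOpens) : nu X ⁻¹ᵁ U = ((cover X).f U).opensRange := by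
  simpa using! (glueData X).toBase_preimage_eq_opensRange_ι U

theorem nu_of (P : MorphismProperty Scheme.{u}) [IsZariskiLocalAtTarget P]
    (h : ∀ U : X.affineOpens, P (Spec.map (CommRingCat.ofHom (algebraMap Γ(X, U.1) (W Γ(X, U.1)))))) :
    P (nu X) := by
  rw [IsZariskiLocalAtTarget.iff_of_iSup_eq_top (P := P) _ (iSup_affineOpens_eq_top _)]
  intro U
  let e := IsOpenImmersion.isoOfRangeEq (nu X ⁻¹ᵁ U).ι ((cover X).f U)
      (by simpa using congr($(nu_preimage X U).1))
  rw [← MorphismProperty.cancel_left_of_respectsIso P e.inv,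
    ← MorphismProperty.cancel_right_of_respectsIso P _ U.2.isoSpec.hom]
  convert! h U
  rw [← cancel_mono U.2.fromSpec]
  simp [IsAffineOpen.isoSpec_hom, e]
  exact cover_nu X U

theorem isUnivHomeo_nu : FlatMor.IsUnivHomeo (nu X) := by
  have h1 : IsIntegralHom (nu X) := nu_of X (@IsIntegralHom.{u}) fun U =>
    IsIntegralHom.SpecMap_iff.2 (isIntegral_W _)
  have h2 : Surjective (nu X) := nu_of X (@Surjective.{u}) fun U => ⟨surjective_comap_W _⟩
  have h3 : UniversallyInjective (nu X) := nu_of X (@UniversallyInjective.{u}) fun U =>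
    (universallyInjective_spec_iff _).2 (injPoints_W _)
  exact isUnivHomeo_of _

theorem isReduced_awn : IsReduced (awn X) :=
  haveI : ∀ U, IsReduced ((cover X).X U) := fun (U : X.affineOpens) =>
    inferInstanceAs (IsReduced (Spec (CommRingCat.of (W Γ(X, U.1)))))
  IsReduced.of_openCover _ (cover X)

theorem exists_desc {Y : Scheme.{u}} (π : Y ⟶ X) (hπ : FlatMor.IsUnivHomeo π) :
    ∃! g : awn X ⟶ Y, g ≫ π = nu X := by
  have : UniversallyClosed π := universallyClosed_of_isUnivHomeo hπ
  have : UniversallyInjective π := universallyInjective_of_isUnivHomeo hπ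
  have : Surjective π := surjective_of_isUnivHomeo hπ
  have hh : IsHomeomorph π := isHomeomorph_iff_continuous_isClosedMap_bijective.mpr
    ⟨π.continuous, π.isClosedMap, π.injective, π.surjective⟩
  have : IsAffineHom π :=
    isAffineHom_of_isInducing π hh.isInducing hh.isClosedEmbedding.isClosed_range
  have hred := isReduced_awn X
  have hex : ∀ U : X.affineOpens, ∃ g : (cover X).X U ⟶ Y, g ≫ π = (cover X).f U ≫ nu X := by
    intro U
    let P := pullback π U.2.fromSpec
    have : IsAffine P := isAffine_of_isAffineHom (pullback.snd π U.2.fromSpec)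
    let m : Spec Γ(P, ⊤) ⟶ Spec Γ(X, U.1) := P.isoSpec.inv ≫ pullback.snd π U.2.fromSpec
    obtain ⟨ψ, hψ⟩ := Spec.map_surjective m
    have : UniversallyClosed m := inferInstance
    have : UniversallyInjective (pullback.snd π U.2.fromSpec) :=
      MorphismProperty.pullback_snd (P := @UniversallyInjective) _ _ ‹UniversallyInjective π›
    have : Surjective (pullback.snd π U.2.fromSpec) := MorphismProperty.pullback_snd (P := @Surjective) _ _ ‹Surjective π›
    have : UniversallyInjective m :=
      (MorphismProperty.cancel_left_of_respectsIso (@UniversallyInjective) _ _).2 ‹_›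
    have : Surjective m := inferInstance
    have hm : FlatMor.IsUnivHomeo (Spec.map (CommRingCat.ofHom ψ.hom)) := by
      rw [CommRingCat.ofHom_hom, hψ]
      exact isUnivHomeo_of m
    obtain ⟨χ, hχ, -⟩ := (W_isRingAWN Γ(X, U.1)).2 Γ(P, ⊤) ψ.hom hm
    refine ⟨Spec.map (CommRingCat.ofHom χ) ≫ P.isoSpec.inv ≫ pullback.fst π U.2.fromSpec, ?_⟩
    rw [cover_nu, Category.assoc, Category.assoc, pullback.condition]
    rw [show CommRingCat.ofHom (algebraMap Γ(X, U.1) (W Γ(X, U.1))) = ψ ≫ CommRingCat.ofHom χ from
      CommRingCat.hom_ext hχ.symm, Spec.map_comp, hψ]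
    simp [m]
  choose g hg using hex
  refine ⟨(cover X).glueMorphismsOfLocallyDirected g (fun {U V} i => ?_), ?_, fun g' hg' => ?_⟩
  · have : IsReduced ((cover X).X U) := isReduced_of_isOpenImmersion ((cover X).f U)
    exact ext_of_radicial π _ _ (by
      rw [Category.assoc, hg, hg, ← Category.assoc, Scheme.Cover.trans_map])
  · apply (cover X).hom_ext
    intro U
    rw [← Category.assoc, OpenCover.map_glueMorphismsOfLocallyDirected]
    exact hg U
  · refine ext_of_radicial π _ _ (hg'.trans ((cover X).hom_ext _ _ fun U => ?_))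
    rw [← Category.assoc, OpenCover.map_glueMorphismsOfLocallyDirected]
    exact (hg U).symm

theorem exists_isAWNormalization : ∃ (X' : Scheme.{u}) (ν : X' ⟶ X), HTop.IsAWNormalization ν :=
  ⟨awn X, nu X, isUnivHomeo_nu X, fun _ π hπ => exists_desc X π hπ⟩

end Groth.Agent.HTopAWN
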