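import Mathlib
import Groth.Agent.UnivHomeo.Basic

set_option autoImplicit false
set_option backward.isDefEq.respectTransparency false

universe u

open CategoryTheory Limits AlgebraicGeometry Groth.Agent.UnivHomeo.Basic

namespace Groth.Agent.HTopAWN

/-- the scheme-theoretic image of a universal homeomorphism in a separated finite type scheme -/
theorem image_isFinite_univHomeo {T' M T : Scheme.{u}} (h : T' ⟶ M) (p : M ⟶ T) [IsSeparated p]
    [LocallyOfFiniteType p] (ν : T' ⟶ T) (hν : FlatMor.IsUnivHomeo ν) (e : h ≫ p = ν) :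
    IsFinite (h.imageι ≫ p) ∧ FlatMor.IsUnivHomeo (h.imageι ≫ p) ∧
      (HTop.ResidueFieldsIso ν → HTop.ResidueFieldsIso (h.imageι ≫ p)) := by
  subst e
  have hc := universallyClosed_of_isUnivHomeo hν
  have hi := universallyInjective_of_isUnivHomeo hν
  have hs := surjective_of_isUnivHomeo hν
  have : UniversallyClosed h := .of_comp_of_isSeparated h p
  set h' := h.toImage
  set π := h.imageι ≫ p
  have e : h' ≫ π = h ≫ p := by simp [h', π]
  have : Surjective h' := ⟨fun z => by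
    have hd : DenseRange h' := h'.denseRange
    have hcl : IsClosed (Set.range h') := h'.isClosedMap.isClosed_range
    have := hd z
    rwa [hcl.closure_eq] at this⟩
  have : UniversallyClosed (h' ≫ π) := e ▸ hc
  have : UniversallyClosed π := .of_comp_surjective h' π
  have : Surjective π := ⟨fun t => by
    obtain ⟨x, hx⟩ := hs.surj t
    exact ⟨h' x, by rw [← Scheme.Hom.comp_apply, e]; exact hx⟩⟩
  have : UniversallyInjective π := ⟨by
    intro Z'' T'' i₁ i₂ f' hpb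
    have hp : IsPullback (pullback.snd h' i₁ ≫ f') (pullback.fst h' i₁) i₂ (h ≫ p) :=
      e ▸ (IsPullback.of_hasPullback h' i₁).flip.paste_horiz hpb
    have hinj : Function.Injective ⇑(pullback.snd h' i₁ ≫ f') := hi.1 _ _ _ hp
    have hsurj : Surjective (pullback.snd h' i₁) :=
      MorphismProperty.pullback_snd (P := @Surjective) _ _ ‹Surjective h'›
    intro a b hab
    obtain ⟨a', rfl⟩ := hsurj.surj a
    obtain ⟨b', rfl⟩ := hsurj.surj b
    exact congrArg _ (hinj (by rw [Scheme.Hom.comp_apply, Scheme.Hom.comp_apply]; exact hab))⟩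
  have : IsProper π := ⟨⟩
  refine ⟨IsFinite.of_isProper_of_locallyQuasiFinite π, isUnivHomeo_of π, fun hr z => ?_⟩
  obtain ⟨x, rfl⟩ := Surjective.surj (f := h') z
  have hx : IsIso ((h ≫ p).residueFieldMap x) := hr x
  have key : ∀ (ν' : T' ⟶ T) (_ : h' ≫ π = ν') (_ : IsIso (ν'.residueFieldMap x)),
      IsIso (π.residueFieldMap (h' x) ≫ h'.residueFieldMap x) := by
    rintro _ rfl hx'
    rwa [Scheme.residueFieldMap_comp] at hx'
  have hb := (ConcreteCategory.isIso_iff_bijective _).1 (key _ e hx)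
  rw [ConcreteCategory.isIso_iff_bijective]
  refine ⟨(π.residueFieldMap (h' x)).hom.injective, fun y => ?_⟩
  obtain ⟨a, ha⟩ := hb.2 (h'.residueFieldMap x y)
  exact ⟨a, (h'.residueFieldMap x).hom.injective ha⟩

/-- two morphisms from the image agreeing on the source agree -/
theorem image_hom_ext {T' M X : Scheme.{u}} [X.IsSeparated] (h : T' ⟶ M) (g₁ g₂ : h.image ⟶ X)
    (e : h.toImage ≫ g₁ = h.toImage ≫ g₂) : g₁ = g₂ := by
  let ι := equalizer.ι g₁ g₂
  let r : T' ⟶ equalizer g₁ g₂ := equalizer.lift h.toImage e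
  have hle : (ι ≫ h.imageι).ker ≤ h.imageι.ker := by
    have h1 : (ι ≫ h.imageι).ker ≤ (r ≫ ι ≫ h.imageι).ker := Scheme.Hom.le_ker_comp _ _
    have h2 : r ≫ ι ≫ h.imageι = h := by simp [r, ι]
    rw [h2] at h1
    rwa [Scheme.IdealSheafData.ker_subschemeι]
  let s := IsClosedImmersion.lift (ι ≫ h.imageι) h.imageι hle
  have hs : s ≫ ι = 𝟙 _ := by
    rw [← cancel_mono h.imageι, Category.assoc, Category.id_comp]
    exact IsClosedImmersion.lift_fac _ _ _
  rw [← Category.id_comp g₁, ← Category.id_comp g₂, ← hs, Category.assoc, Category.assoc,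
    equalizer.condition]

variable {S X T T' : Scheme.{u}} [X.IsSeparated] (fX : X ⟶ S) [LocallyOfFiniteType fX] (fT : T ⟶ S)
  (ν : T' ⟶ T)

theorem factor_exists (hν : FlatMor.IsUnivHomeo ν) (g : T' ⟶ X) (hg : g ≫ fX = ν ≫ fT) :
    ∃ (T₁ : Scheme.{u}) (π : T₁ ⟶ T) (g₁ : T₁ ⟶ X) (h : T' ⟶ T₁),
      IsFinite π ∧ FlatMor.IsUnivHomeo π ∧ (HTop.ResidueFieldsIso ν → HTop.ResidueFieldsIso π) ∧
      h ≫ π = ν ∧ g₁ ≫ fX = π ≫ fT ∧ h ≫ g₁ = g := by
  let m := pullback.lift ν g hg.symm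
  have : IsSeparated fX := by
    have : IsSeparated (fX ≫ terminal.from S) := by
      rw [terminal.comp_from]; exact ‹X.IsSeparated›.isSeparated_terminal_from
    exact IsSeparated.of_comp fX (terminal.from S)
  obtain ⟨h1, h2, h3⟩ := image_isFinite_univHomeo m (pullback.fst fT fX) ν hν (pullback.lift_fst ..)
  refine ⟨m.image, m.imageι ≫ pullback.fst fT fX, m.imageι ≫ pullback.snd fT fX, m.toImage, h1, h2, h3,
    ?_, by simp [pullback.condition], ?_⟩
  · rw [← Category.assoc, Scheme.Hom.toImage_imageι, pullback.lift_fst]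
  · rw [← Category.assoc, Scheme.Hom.toImage_imageι, pullback.lift_snd]

theorem factor_unique (hν : FlatMor.IsUnivHomeo ν) {T₁ T₂ : Scheme.{u}} (π₁ : T₁ ⟶ T) (π₂ : T₂ ⟶ T)
    [IsFinite π₁] [IsFinite π₂] (g₁ : T₁ ⟶ X) (g₂ : T₂ ⟶ X) (h₁ : T' ⟶ T₁) (h₂ : T' ⟶ T₂)
    (e₁ : h₁ ≫ π₁ = ν) (e₂ : h₂ ≫ π₂ = ν) (eg : h₁ ≫ g₁ = h₂ ≫ g₂) :
    ∃ (T₃ : Scheme.{u}) (π₃ : T₃ ⟶ T) (a₁ : T₃ ⟶ T₁) (a₂ : T₃ ⟶ T₂),
      IsFinite π₃ ∧ FlatMor.IsUnivHomeo π₃ ∧ (HTop.ResidueFieldsIso ν → HTop.ResidueFieldsIso π₃) ∧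
      a₁ ≫ π₁ = π₃ ∧ a₂ ≫ π₂ = π₃ ∧ a₁ ≫ g₁ = a₂ ≫ g₂ := by
  let m := pullback.lift h₁ h₂ (e₁.trans e₂.symm)
  have em : m ≫ pullback.fst π₁ π₂ ≫ π₁ = ν := by rw [← Category.assoc, pullback.lift_fst, e₁]
  obtain ⟨h1, h2, h3⟩ := image_isFinite_univHomeo m (pullback.fst π₁ π₂ ≫ π₁) ν hν em
  refine ⟨m.image, m.imageι ≫ pullback.fst π₁ π₂ ≫ π₁, m.imageι ≫ pullback.fst π₁ π₂,
    m.imageι ≫ pullback.snd π₁ π₂, h1, h2, h3, by simp, by simp [pullback.condition], ?_⟩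
  refine image_hom_ext m _ _ ?_
  simp only [← Category.assoc, Scheme.Hom.toImage_imageι]
  rw [show m ≫ pullback.fst π₁ π₂ = h₁ from pullback.lift_fst .., show m ≫ pullback.snd π₁ π₂ = h₂ from
    pullback.lift_snd .., eg]

end Groth.Agent.HTopAWN
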